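import Mathlib

/-! # The affine computation behind extending a Kummer cover across an integral special fibre -/

set_option autoImplicit false

namespace Groth.Agent.Lib.Helper18.KumNorm

open Polynomial

theorem kummer_core {A A' S : Type*} [CommRing A] [IsDomain A] [IsNoetherianRing A]
    [CommRing A'] [Algebra A A'] (π : A) [IsLocalization.Away π A']
    [CommRing S] [IsDomain S] [Algebra A' S] [Algebra A S] [IsScalarTower A A' S]
    (hprime : (Ideal.span {π}).IsPrime) (hπ0 : π ≠ 0)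
    (m : ℕ) (hm : 0 < m) (f : A) (hf : IsUnit (algebraMap A A' f))
    (z : S) (hz : z ^ m = algebraMap A S f)
    (hsp : (Ideal.span {algebraMap A (integralClosure A S) π}).IsPrime) :
    ∃ (q : ℕ) (u : Aˣ), f = π ^ (m * q) * (u : A) := by
  classical
  have hπprime : Prime π := (Ideal.span_singleton_prime hπ0).mp hprime
  have hπnu : ¬ IsUnit π := hπprime.not_unit
  have hinjA' : Function.Injective (algebraMap A A') :=
    IsLocalization.injective A' (M := Submonoid.powers π)
      (powers_le_nonZeroDivisors_of_noZeroDivisors hπ0)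
  have hf0 : f ≠ 0 := by
    rintro rfl
    rw [map_zero] at hf
    have h01 : (0 : A') = 1 := isUnit_zero_iff.mp hf
    exact one_ne_zero (hinjA' (by rw [map_one, map_zero]; exact h01.symm))
  obtain ⟨u, hfu, hu⟩ :=
    (FiniteMultiplicity.of_not_isUnit hπnu hf0).exists_eq_pow_mul_and_not_dvd
  obtain ⟨n, hn⟩ : ∃ n, n = multiplicity π f := ⟨_, rfl⟩
  rw [← hn] at hfu
  obtain ⟨g', hg'⟩ := hf.exists_right_inv
  obtain ⟨⟨g, ⟨_, k, rfl⟩⟩, hgk⟩ := IsLocalization.surj (Submonoid.powers π) g'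
  have hfg : f * g = π ^ k := by
    apply hinjA'
    rw [map_mul, ← hgk, ← mul_assoc, hg', one_mul]
  have hg0 : g ≠ 0 := by
    rintro rfl
    rw [mul_zero] at hfg
    exact pow_ne_zero k hπ0 hfg.symm
  obtain ⟨g₂, hgg, hg₂⟩ :=
    (FiniteMultiplicity.of_not_isUnit hπnu hg0).exists_eq_pow_mul_and_not_dvd
  obtain ⟨b, hb⟩ : ∃ b, b = multiplicity π g := ⟨_, rfl⟩
  rw [← hb] at hgg
  have hug : ¬ π ∣ u * g₂ := fun h => (hπprime.dvd_or_dvd h).elim hu hg₂
  have hkey : π ^ (n + b) * (u * g₂) = π ^ k := by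
    rw [← hfg, hfu, hgg]; ring
  have hu_unit : IsUnit u := by
    rcases Nat.lt_or_ge k (n + b) with h | h
    · exfalso
      obtain ⟨d, hd⟩ : ∃ d, n + b = k + (d + 1) := ⟨n + b - k - 1, by omega⟩
      rw [hd, pow_add, mul_assoc] at hkey
      have h1 : π ^ (d + 1) * (u * g₂) = 1 :=
        mul_left_cancel₀ (pow_ne_zero k hπ0) (hkey.trans (mul_one _).symm)
      apply hπnu
      rw [pow_succ, mul_comm (π ^ d), mul_assoc] at h1
      exact IsUnit.of_mul_eq_one _ h1
    · obtain ⟨d, hd⟩ : ∃ d, k = n + b + d := ⟨k - (n + b), by omega⟩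
      rw [hd, pow_add _ (n + b) d] at hkey
      have h1 : u * g₂ = π ^ d := mul_left_cancel₀ (pow_ne_zero _ hπ0) hkey
      rcases Nat.eq_zero_or_pos d with hd0 | hdpos
      · rw [hd0, pow_zero] at h1
        exact IsUnit.of_mul_eq_one _ h1
      · exfalso
        apply hug
        rw [h1]
        exact dvd_pow_self π hdpos.ne'
  obtain ⟨u', rfl⟩ := hu_unit
  obtain ⟨q, r, hnqr, hr⟩ : ∃ q r, n = m * q + r ∧ r < m :=
    ⟨n / m, n % m, (Nat.div_add_mod n m).symm, Nat.mod_lt _ hm⟩
  suffices hr0 : r = 0 by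
    refine ⟨q, u', ?_⟩
    rw [hfu, hnqr, hr0, add_zero]
  by_contra hr0
  have hrpos : 0 < r := Nat.pos_of_ne_zero hr0
  have hπS : IsUnit (algebraMap A S π) := by
    rw [IsScalarTower.algebraMap_apply A A' S]
    exact (IsLocalization.Away.algebraMap_isUnit π).map _
  obtain ⟨πS, hπS'⟩ := hπS
  obtain ⟨w, hwdef⟩ : ∃ w : S, w = z * ((πS⁻¹ : Sˣ) : S) ^ q := ⟨_, rfl⟩
  have hw : w ^ m = algebraMap A S (π ^ r * (u' : A)) := by
    have hPP : (πS : S) * ((πS⁻¹ : Sˣ) : S) = 1 := πS.mul_inv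
    have h1 : (πS : S) ^ (m * q) * ((πS⁻¹ : Sˣ) : S) ^ (m * q) = 1 := by
      rw [← mul_pow, hPP, one_pow]
    rw [hwdef, mul_pow, hz, hfu, hnqr, map_mul, map_mul, map_pow, map_pow, ← hπS']
    calc (πS : S) ^ (m * q + r) * algebraMap A S u' * (((πS⁻¹ : Sˣ) : S) ^ q) ^ m
        = ((πS : S) ^ (m * q) * ((πS⁻¹ : Sˣ) : S) ^ (m * q)) *
            ((πS : S) ^ r * algebraMap A S u') := by ring
      _ = _ := by rw [h1, one_mul]
  have hwint : IsIntegral A w := by
    refine ⟨X ^ m - C (π ^ r * (u' : A)), monic_X_pow_sub_C _ hm.ne', ?_⟩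
    rw [eval₂_sub, eval₂_pow, eval₂_X, eval₂_C, hw, sub_self]
  obtain ⟨wB, hwB0⟩ : ∃ wB : integralClosure A S, (wB : S) = w := ⟨⟨w, hwint⟩, rfl⟩
  have hwB : wB ^ m = algebraMap A (integralClosure A S) (π ^ r * (u' : A)) := by
    apply Subtype.ext
    show ((wB ^ m : integralClosure A S) : S) = algebraMap A S (π ^ r * (u' : A))
    rw [SubmonoidClass.coe_pow, hwB0, hw]
  have hmem : wB ∈ Ideal.span {algebraMap A (integralClosure A S) π} := by
    apply hsp.mem_of_pow_mem m
    rw [hwB, map_mul, map_pow]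
    obtain ⟨r', rfl⟩ : ∃ r', r = r' + 1 := ⟨r - 1, by omega⟩
    rw [pow_succ, mul_assoc]
    exact Ideal.mul_mem_left _ _ (Ideal.mul_mem_right _ _ (Ideal.mem_span_singleton_self _))
  obtain ⟨w', hw'⟩ := Ideal.mem_span_singleton'.mp hmem
  have hπB0 : algebraMap A (integralClosure A S) π ≠ 0 := by
    intro h0
    have h1 : algebraMap A S π = 0 := by
      have := congrArg (Subtype.val) h0
      simpa using this
    rw [← hπS'] at h1
    exact πS.ne_zero h1
  have h3 : algebraMap A (integralClosure A S) π ^ (m - r) * w' ^ m =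
      algebraMap A (integralClosure A S) (u' : A) := by
    apply mul_left_cancel₀ (pow_ne_zero r hπB0)
    rw [← mul_assoc, ← pow_add, (by omega : r + (m - r) = m), ← mul_pow, mul_comm _ w', hw', hwB,
      map_mul, map_pow]
  have hdvd : algebraMap A (integralClosure A S) π ∣
      algebraMap A (integralClosure A S) (u' : A) := by
    refine ⟨algebraMap A (integralClosure A S) π ^ (m - r - 1) * w' ^ m, ?_⟩
    rw [← h3, ← mul_assoc, ← pow_succ', (by omega : m - r - 1 + 1 = m - r)]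
  have huB : IsUnit (algebraMap A (integralClosure A S) (u' : A)) := u'.isUnit.map _
  have hπBunit : IsUnit (algebraMap A (integralClosure A S) π) := isUnit_of_dvd_unit hdvd huB
  exact hsp.ne_top (Ideal.span_singleton_eq_top.mpr hπBunit)

end Groth.Agent.Lib.Helper18.KumNorm
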